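import Cfsg.Agent.SM.CSi.Cnt
import Cfsg.Agent.H930.UnitaryTwo
import Cfsg.Agent.LieClassical.HermCount
import Cfsg.Agent.ClassicalGeometry.HermOrthonormal

/-!
# SM (S3570), box CS-Idx: the non-isotropic points of a unitary space (helper99)
-/

set_option autoImplicit false
set_option linter.unusedSectionVars false

namespace Cfsg.Agent.SM.CS.Ix

open Module Matrix
open Cfsg Cfsg.Geo
open Cfsg.Agent.LieClassical.HermBasic
open Cfsg.Agent.H930 (UForm.sub_left UForm.smul_right UForm.add_right UForm.zero_left)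

variable {ι : Type} [Fintype ι] [DecidableEq ι] {K : Type} [Field K] [Fintype K] {q : ℕ}
  {f : (ι → K) → (ι → K) → K}

theorem u_sub_right (hK : Fintype.card K = q ^ 2) (hf : IsUnitaryFormPow q f) (u v w : ι → K) :
    f u (v - w) = f u v - f u w := by
  rw [hf.herm, UForm.sub_left hf, sub_pow_q hK, ← hf.herm, ← hf.herm]

/-- the functional `x ↦ f x d` -/
def uFun (hf : IsUnitaryFormPow q f) (d : ι → K) : (ι → K) →ₗ[K] K where
  toFun x := f x d
  map_add' x y := hf.add_left x y d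
  map_smul' c x := hf.smul_left c x d

/-- quasi-reflections and transvections -/
theorem exists_qrefl (hK : Fintype.card K = q ^ 2) (hf : IsUnitaryFormPow q f) (d : ι → K) {β : K} (hβ : β ≠ 0)
    (h : f d d = β + β ^ q) : ∃ g ∈ preserving (Units.coeHom (Matrix ι ι K)) f,
      (∀ x, (g : Matrix ι ι K) *ᵥ x = x - (β⁻¹ * f x d) • d) ∧ (g : Matrix ι ι K).det = 1 - β⁻¹ * f d d := by
  obtain ⟨φ, hφ⟩ := (dotProductEquiv K ι).surjective (uFun hf d)
  have hφ' : ∀ x, φ ⬝ᵥ x = f x d := fun x => LinearMap.congr_fun hφ x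
  have hβq : β ^ q ≠ 0 := pow_ne_zero _ hβ
  have hdet : (1 + vecMulVec (-β⁻¹ • d) φ).det = 1 - β⁻¹ * f d d := by
    rw [vecMulVec_eq Unit, det_one_add_replicateCol_mul_replicateRow, dotProduct_smul, hφ', smul_eq_mul]
    ring
  have hne : (1 + vecMulVec (-β⁻¹ • d) φ).det ≠ 0 := by
    rw [hdet, h, mul_add, inv_mul_cancel₀ hβ, sub_add_cancel_left, neg_ne_zero]
    exact mul_ne_zero (inv_ne_zero hβ) hβq
  have hap : ∀ x, (1 + vecMulVec (-β⁻¹ • d) φ) *ᵥ x = x - (β⁻¹ * f x d) • d := by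
    intro x
    rw [add_mulVec, one_mulVec, vecMulVec_mulVec, op_smul_eq_smul, hφ', smul_smul, mul_neg, neg_smul, sub_eq_add_neg,
      mul_comm]
  refine ⟨Matrix.GeneralLinearGroup.mkOfDetNeZero _ hne, fun x y => ?_, hap, hdet⟩
  change f ((1 + vecMulVec (-β⁻¹ • d) φ) *ᵥ x) ((1 + vecMulVec (-β⁻¹ • d) φ) *ᵥ y) = f x y
  rw [hap, hap, UForm.sub_left hf, u_sub_right hK hf, u_sub_right hK hf, hf.smul_left, hf.smul_left,
    UForm.smul_right hf, UForm.smul_right hf, h, hf.herm d y, mul_pow, inv_pow]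
  field_simp
  ring

theorem u_step (hK : Fintype.card K = q ^ 2) (hf : IsUnitaryFormPow q f) {v w : ι → K} (h : f w w = f v v)
    (hne : f v w ≠ f v v) : ∃ g ∈ preserving (Units.coeHom (Matrix ι ι K)) f, (g : Matrix ι ι K) *ᵥ v = w ∧
      (g : Matrix ι ι K).det * (g : Matrix ι ι K).det ^ q = 1 := by
  have hβ : f v (v - w) ≠ 0 := by
    rw [u_sub_right hK hf]
    exact sub_ne_zero.2 hne.symm
  have h1 : f (v - w) (v - w) = f v (v - w) + f v (v - w) ^ q := by
    rw [← hf.herm, UForm.sub_left hf, UForm.sub_left hf, u_sub_right hK hf w, h]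
    ring
  obtain ⟨g, hg, hap, hdet⟩ := exists_qrefl hK hf (v - w) hβ h1
  refine ⟨g, hg, by rw [hap, inv_mul_cancel₀ hβ, one_smul, sub_sub_cancel], ?_⟩
  have h2 : (g : Matrix ι ι K).det = -((f v (v - w))⁻¹ * f v (v - w) ^ q) := by
    rw [hdet, h1, mul_add, inv_mul_cancel₀ hβ, sub_add_cancel_left]
  have hβq : f v (v - w) ^ q ≠ 0 := pow_ne_zero _ hβ
  rw [h2, neg_pow_q hK, mul_pow, inv_pow, pow_q_pow_q hK]
  field_simp

theorem exists_norm_one_ne (hK : Fintype.card K = q ^ 2) : ∃ l : K, l * l ^ q = 1 ∧ l ≠ 1 := by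
  by_contra h
  push Not at h
  have h1 := card_norm_eq_one hK
  have h2 := two_le hK
  have : Subsingleton {x : K // x * x ^ q = 1} := ⟨fun a b => Subtype.ext ((h a a.2).trans (h b b.2).symm)⟩
  have := Finite.card_le_one_iff_subsingleton.2 this
  omega

/-- `GU(f)` is transitive on the vectors of a given non-zero norm -/
theorem u_trans (hK : Fintype.card K = q ^ 2) (hf : IsUnitaryFormPow q f) {v w : ι → K} (hv : f v v ≠ 0)
    (h : f w w = f v v) : ∃ g ∈ preserving (Units.coeHom (Matrix ι ι K)) f, (g : Matrix ι ι K) *ᵥ v = w ∧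
      (g : Matrix ι ι K).det * (g : Matrix ι ι K).det ^ q = 1 := by
  by_cases hne : f v w = f v v
  · obtain ⟨l, hl, hl1⟩ := exists_norm_one_ne hK
    have h1 : f (l • w) (l • w) = f v v := by
      rw [hf.smul_left, UForm.smul_right hf, ← mul_assoc, hl, one_mul, h]
    obtain ⟨g, hg, hgv, hd⟩ := u_step hK hf h1 (by
      rw [UForm.smul_right hf, hne]
      intro h2
      apply hl1
      rw [← pow_q_inj hK, one_pow]
      exact mul_right_cancel₀ hv (h2.trans (one_mul _).symm))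
    obtain ⟨g', hg', hgv', hd'⟩ := u_step hK hf (v := l • w) (w := w) (h.trans h1.symm) (by
      rw [h1, hf.smul_left, h]
      exact fun h2 => hl1 (mul_right_cancel₀ hv (h2.trans (one_mul _).symm)))
    refine ⟨g' * g, Subgroup.mul_mem _ hg' hg, by rw [Units.val_mul, ← mulVec_mulVec, hgv, hgv'], ?_⟩
    rw [Units.val_mul, det_mul, mul_pow]
    linear_combination ((g : Matrix ι ι K).det * (g : Matrix ι ι K).det ^ q) * hd' + hd
  · exact u_step hK hf h hne

/-- coordinates in an orthonormal basis -/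
theorem exists_coord (hK : Fintype.card K = q ^ 2) (hf : IsUnitaryFormPow q f) :
    ∃ e : (Fin (Fintype.card ι) → K) ≃ₗ[K] (ι → K), ∀ u v, f (e u) (e v) = hermForm (Fintype.card ι) K q u v := by
  have hne : ((conj hK : K ≃+* K) : K →+* K) ≠ RingHom.id K := by
    intro h
    obtain ⟨x, hx⟩ := exists_not_fixed hK
    exact hx (by have := RingHom.congr_fun h x; simpa [conj_apply] using this)
  let B : (ι → K) →ₛₗ[((conj hK : K ≃+* K) : K →+* K)] (ι → K) →ₗ[K] K :=
    LinearMap.mk₂'ₛₗ ((conj hK : K ≃+* K) : K →+* K) (RingHom.id K) (fun u v => f v u)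
      (fun u u' v => UForm.add_right hK hf v u u') (fun c u v => UForm.smul_right hf c v u)
      (fun u v v' => hf.add_left v v' u) (fun c u v => hf.smul_left c v u)
  obtain ⟨b, hb⟩ := Cfsg.Agent.ClassicalGeometry.HermOrthonormal.exists_orthonormal_basis hne
    (fun a => by simp [conj_apply, pow_q_pow_q hK]) B
    ⟨fun u v => by
      change (f v u) ^ q = f u v
      exact (hf.herm u v).symm⟩
    (by
      intro u hu
      by_contra hu0
      obtain ⟨⟨x, hx⟩, -⟩ := hf.nondegenerate u hu0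
      exact hx (hu x))
  have hfin : finrank K (ι → K) = Fintype.card ι := Module.finrank_fintype_fun_eq_card K
  let b' : Basis (Fin (Fintype.card ι)) K (ι → K) := b.reindex (finCongr hfin)
  have hb' : ∀ i j, f (b' i) (b' j) = if i = j then 1 else 0 := by
    intro i j
    have : f (b ((finCongr hfin).symm i)) (b ((finCongr hfin).symm j)) = _ :=
      hb ((finCongr hfin).symm j) ((finCongr hfin).symm i)
    simp only [b', Basis.reindex_apply]
    rw [this]
    simp [eq_comm]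
  have hl : ∀ (u : Fin (Fintype.card ι) → K) (d : ι → K), f (b'.equivFun.symm u) d = ∑ i, u i * f (b' i) d := by
    intro u d
    change uFun hf d _ = _
    rw [Basis.equivFun_symm_apply, map_sum]
    exact Finset.sum_congr rfl fun i _ => by rw [map_smul, smul_eq_mul]; rfl
  refine ⟨b'.equivFun.symm, fun u v => ?_⟩
  rw [hl, herm_def]
  refine Finset.sum_congr rfl fun i _ => ?_
  rw [hf.herm, hl]
  simp [hb']

theorem u_count (hK : Fintype.card K = q ^ 2) (hf : IsUnitaryFormPow q f) {m : ℕ} (hd : Fintype.card ι = 2 * m)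
    {v : ι → K} (hv : f v v ≠ 0) : {w | f w w = f v v}.ncard = q ^ (2 * m - 1) * (q ^ (2 * m) - 1) := by
  obtain ⟨e, he⟩ := exists_coord hK hf
  have h1 : Nat.card {w : ι → K // f w w = f v v} =
      Nat.card {u : Fin (Fintype.card ι) → K // hermForm _ K q u u = f v v} :=
    (Nat.card_congr (e.toEquiv.subtypeEquiv fun u => by rw [← he]; rfl)).symm
  rw [← Nat.card_coe_set_eq]
  refine h1.trans ?_
  rw [LieClassical.HermCount.card_scale hK _ (hf.herm v v).symm hv, LieClassical.HermCount.card_norm_one hK, hd,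
    if_pos (even_two_mul m)]

/-- `SU(f)` is transitive on the vectors of a given non-zero norm -/
theorem orb_su (hK : Fintype.card K = q ^ 2) (hf : IsUnitaryFormPow q f) (hn : 2 ≤ Fintype.card ι) {v : ι → K}
    (hv : f v v ≠ 0) :
    orb (preserving (Units.coeHom (Matrix ι ι K)) f ⊓ specialLinear ι K) v = {w | f w w = f v v} := by
  ext w
  refine ⟨?_, fun hw => ?_⟩
  · rintro ⟨g, hg, rfl⟩
    exact hg.1 v v
  have hw' : f w w = f v v := hw
  obtain ⟨g, hg, hgv, hd⟩ := u_trans hK hf hv hw'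
  have hsl : ∀ x : GL ι K, (x : Matrix ι ι K).det = 1 → x ∈ specialLinear ι K := fun x hx => Units.ext hx
  by_cases h1 : (g : Matrix ι ι K).det = 1
  · exact ⟨g, ⟨hg, hsl g h1⟩, hgv⟩
  obtain ⟨a, ha, hva⟩ : ∃ a, f a a = 1 ∧ f v a = 0 := by
    obtain ⟨e, he⟩ := exists_coord hK hf
    obtain ⟨s, hs⟩ := exists_norm_eq hK (hf.herm v v).symm
    let i : Fin (Fintype.card ι) := ⟨0, by omega⟩
    let j : Fin (Fintype.card ι) := ⟨1, by omega⟩
    have hij : j ≠ i := fun h => absurd (congrArg Fin.val h) one_ne_zero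
    have h2 : f (e (Pi.single i s)) (e (Pi.single i s)) = f v v := by
      rw [he, herm_single_left, Pi.single_eq_same, hs]
    obtain ⟨x, hx, hxv, -⟩ := u_trans hK hf (v := e (Pi.single i s)) (w := v) (by rwa [h2]) h2.symm
    refine ⟨(x : Matrix ι ι K) *ᵥ e (Pi.single j 1), (hx _ _).trans ?_, ?_⟩
    · rw [he, herm_single_left, Pi.single_eq_same, one_pow, mul_one]
    · conv_lhs => rw [← hxv]
      refine (hx _ _).trans ?_
      rw [he, herm_single_left, Pi.single_eq_of_ne hij.symm, zero_pow_q hK, mul_zero]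
  obtain ⟨δ, hδ⟩ : ∃ δ, δ = (g : Matrix ι ι K).det := ⟨_, rfl⟩
  rw [← hδ] at hd h1
  have hδ0 : δ ≠ 0 := left_ne_zero_of_mul_eq_one hd
  have h3 : δ ^ q = δ⁻¹ := eq_inv_of_mul_eq_one_right hd
  have h4 : δ - 1 ≠ 0 := sub_ne_zero.2 h1
  have h5 : 1 - δ ≠ 0 := sub_ne_zero.2 (Ne.symm h1)
  obtain ⟨x, hx, hap, hdet⟩ := exists_qrefl hK hf a (β := δ * (δ - 1)⁻¹) (mul_ne_zero hδ0 (inv_ne_zero h4)) (by
    rw [ha, mul_pow, inv_pow, sub_pow_q hK, one_pow, h3]
    have : δ⁻¹ - 1 = δ⁻¹ * (1 - δ) := by field_simp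
    rw [this]
    field_simp
    ring)
  refine ⟨g * x, ⟨Subgroup.mul_mem _ hg hx, hsl _ ?_⟩, ?_⟩
  · rw [Units.val_mul, det_mul, hdet, ← hδ, ha]
    field_simp
    ring
  · rw [Units.val_mul, ← mulVec_mulVec, hap, hva, mul_zero, zero_smul, sub_zero, hgv]

theorem idx_u (hK : Fintype.card K = q ^ 2) (hf : IsUnitaryFormPow q f) {m : ℕ} (hd : Fintype.card ι = 2 * m)
    (hn : 2 ≤ Fintype.card ι) {v : ι → K} (hv : f v v ≠ 0) :
    (subspaceStabilizer (Submodule.span K {v})).relIndex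
      (preserving (Units.coeHom (Matrix ι ι K)) f ⊓ specialLinear ι K) * (q + 1) =
      q ^ (2 * m - 1) * (q ^ (2 * m) - 1) := by
  have hv0 : v ≠ 0 := by
    rintro rfl
    exact hv (UForm.zero_left hf 0)
  rw [← u_count hK hf hd hv, ← orb_su hK hf hn hv, ncard_orb _ hv0, orb_su hK hf hn hv, ← card_norm_eq_one hK,
    ← Nat.card_coe_set_eq]
  congr 1
  refine Nat.card_congr (Equiv.subtypeEquivRight fun c => ?_)
  change _ ↔ f (c • v) (c • v) = f v v
  rw [hf.smul_left, UForm.smul_right hf, ← mul_assoc, mul_eq_right₀ hv]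

end Cfsg.Agent.SM.CS.Ix
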