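import Cfsg.Agent.SM.CS.Defs
import Cfsg.Agent.SM.CSi.Uni
import Cfsg.Agent.H957.SpIndex
import Cfsg.Agent.H727.GW.Isom

/-!
# SM (S3570), box CS-Idx: the sizes of the five spheres (helper99)
-/

set_option autoImplicit false
set_option linter.unusedSectionVars false

namespace Cfsg.Agent.SM.CS.Ix

open Module QuadraticMap Matrix
open Cfsg Cfsg.Geo
open Cfsg.Agent.LieClassical.OrthCore (Nondeg O E)
open Cfsg.Agent.LieClassical.OrthFinite (glEquiv)
open Cfsg.Agent.H955 (IsPlus res perp)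
open Cfsg.Agent.H925 (qf nondeg_qf)
open Cfsg.Agent.H957 (isoQ glOf eOf glOf_mulVec)

/-- `G = H X` -/
theorem relIndex_eq_of_fac {Γ : Type*} [Group Γ] {X H G : Subgroup Γ} (hle : H ≤ G)
    (h : ∀ g ∈ G, ∃ y ∈ H, ∃ x ∈ X, g = y * x) : X.relIndex H = X.relIndex G := by
  rw [← MulAction.stabilizer_quotient X, relIndex_stabilizer, relIndex_stabilizer]
  congr 1
  ext b
  refine ⟨fun ⟨g, hg, hb⟩ => ⟨g, hle hg, hb⟩, fun ⟨g, hg, hb⟩ => ?_⟩
  obtain ⟨y, hy, x, hx, rfl⟩ := h g hg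
  refine ⟨y, hy, ?_⟩
  rw [← MulAction.stabilizer_quotient X] at hx
  rw [← hb, mul_smul, MulAction.mem_stabilizer_iff.1 hx]

theorem card_mul_relIndex {Γ : Type*} [Group Γ] (X G : Subgroup Γ) :
    Nat.card (X ⊓ G : Subgroup Γ) * X.relIndex G = Nat.card G := by
  rw [← Subgroup.inf_relIndex_right]
  have h := Subgroup.relIndex_mul_relIndex (⊥ : Subgroup Γ) (X ⊓ G) G bot_le inf_le_right
  rwa [Subgroup.relIndex_bot_left, Subgroup.relIndex_bot_left] at h

theorem card_isoQ_minus {F : Type} [Field F] [Fintype F] {V : Type} [AddCommGroup V] [Module F V] [FiniteDimensional F V]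
    {Q : QuadraticForm F V} (hQ : Nondeg Q) {k : ℕ} (hd : finrank F V = 2 * (k + 1)) (hP : ¬ IsPlus Q) :
    Nat.card (isoQ Q) = 2 * Fintype.card F ^ ((k + 1) * k) * (Fintype.card F ^ (k + 1) + 1) *
      ∏ i ∈ Finset.range k, (Fintype.card F ^ (2 * (i + 1)) - 1) := by
  obtain ⟨a, b, hab⟩ := H955.exists_aniso_coeff F
  obtain ⟨e, he⟩ := H955.exists_minus_equiv hab k Q hQ hd hP
  rw [H957.card_isoQ_congr e he, ← H957.card_isometryGroup]
  exact H957.card_isometryGroup_minus _ (H955.nondeg_minus k hab) (m := k + 1) (by omega)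
    (by simp only [Fintype.card_sum, Fintype.card_fin]; ring) (H955.not_isPlus_minus k hab)

variable {ι : Type} [Fintype ι] [DecidableEq ι] {K : Type} [Field K] [Fintype K] {Q : (ι → K) → K}

theorem ncard_sq_one : {c : K | c ^ 2 = 1}.ncard = Nat.gcd 2 (Fintype.card K - 1) := by
  have h1 : {c : K | c ^ 2 = 1} = {1, -1} := by
    ext c
    simp [sq_eq_one_iff]
  have hq : 1 < Fintype.card K := Fintype.one_lt_card
  rw [h1]
  rcases Nat.even_or_odd (Fintype.card K) with h | h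
  · have h2 : (-1 : K) = 1 := by
      have : ringChar K = 2 := FiniteField.even_card_iff_char_two.2 (Nat.even_iff.1 h)
      have : CharP K 2 := this ▸ ringChar.charP K
      exact CharTwo.neg_eq 1
    rw [h2, Set.pair_eq_singleton, Set.ncard_singleton]
    exact (Nat.Coprime.gcd_eq_one ((Nat.coprime_two_left).2 (Nat.Even.sub_odd hq.le h odd_one))).symm
  · rw [Set.ncard_pair fun h2 => two_ne_zero_of_odd h (by linear_combination h2)]
    exact (Nat.gcd_eq_left (Nat.Odd.sub_odd h odd_one).two_dvd).symm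

/-- the orbit of a non-singular point under `Ω(Q)` -/
theorem relIndex_omega (hQ : IsNondegenerateQuadraticForm Q) (hn : 5 ≤ Fintype.card ι) {v : ι → K} (hv : Q v ≠ 0) :
    (subspaceStabilizer (Submodule.span K {v})).relIndex (omegaGL Q) * Nat.gcd 2 (Fintype.card K - 1) =
      Nat.card {w : ι → K // qf hQ w = qf hQ v} := by
  have hv0 : v ≠ 0 := by
    rintro rfl
    exact hv (map_zero (qf hQ))
  have h1 := ncard_orb (omegaGL Q) hv0
  rw [orb_omega hQ hn hv] at h1
  have h2 : {c : K | c • v ∈ {w | Q w = Q v}} = {c : K | c ^ 2 = 1} := by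
    ext c
    change Q (c • v) = Q v ↔ c ^ 2 = 1
    rw [hQ.smul, mul_eq_right₀ hv]
  rw [h2, ncard_sq_one, ← Nat.card_coe_set_eq] at h1
  exact h1.symm

theorem idx_p1 (hQ : IsNondegenerateQuadraticForm Q) (hp : IsPlusTypeOn Q ⊤) {m : ℕ} (hd : Fintype.card ι = 2 * m)
    (hn : 5 ≤ Fintype.card ι) {v : ι → K} (hv : Q v ≠ 0) :
    (subspaceStabilizer (Submodule.span K {v})).relIndex (omegaGL Q) * Nat.gcd 2 (Fintype.card K - 1) =
      Fintype.card K ^ (m - 1) * (Fintype.card K ^ m - 1) := by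
  obtain ⟨k, rfl⟩ : ∃ k, m = k + 1 := ⟨m - 1, by omega⟩
  rw [relIndex_omega hQ hn hv, card_norm_plus' (nondeg_qf hQ) (k := k)
    (by rw [Module.finrank_fintype_fun_eq_card, hd]) ((isPlus_iff hQ).2 hp) (c := qf hQ v) hv, Nat.card_eq_fintype_card,
    Nat.add_sub_cancel]

theorem idx_o (hQ : IsNondegenerateQuadraticForm Q) (hq : Odd (Fintype.card K)) {m : ℕ}
    (hd : Fintype.card ι = 2 * m + 1) (hn : 5 ≤ Fintype.card ι) {W : Submodule K (ι → K)} (h2 : finrank K W = 2 * m)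
    (hnd : IsNondegenerateOn (polar Q) W) (hW : ¬ IsPlusTypeOn Q W) :
    (subspaceStabilizer W).relIndex (omegaGL Q) * 2 = Fintype.card K ^ m * (Fintype.card K ^ m - 1) := by
  obtain ⟨v, hv, hWv⟩ := exists_pole hQ (by rw [h2, hd]) hnd
  have hW' : W = perp (qf hQ) (Submodule.span K {v}) := by
    ext w
    rw [hWv, H955.mem_perp]
    constructor
    · intro h u hu
      obtain ⟨a, rfl⟩ := Submodule.mem_span_singleton.1 hu
      rw [polar_smul_left]
      change a • polar Q v w = 0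
      rw [h, smul_zero]
    · intro h
      exact h _ (Submodule.mem_span_singleton_self _)
  have h1 := relIndex_omega hQ hn hv
  rw [Nat.gcd_eq_left (Nat.Odd.sub_odd hq odd_one).two_dvd, ← relIndex_pole hQ hWv (H925.omegaGL_le_iso Q)] at h1
  have h3 := card_norm_odd_minus (two_ne_zero_of_odd hq) (nondeg_qf hQ) (k := m)
    (by rw [Module.finrank_fintype_fun_eq_card, hd]) (v := v) hv (by rw [← hW', isPlus_res_iff hQ]; exact hW)
  rw [← h1, Nat.card_eq_fintype_card, two_mul, pow_add] at h3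
  rw [Nat.mul_sub, mul_one, ← h3, Nat.add_sub_cancel]

theorem card_sp (hQ : IsNondegenerateQuadraticForm Q) (hq : Even (Fintype.card K)) {m : ℕ}
    (hd : Fintype.card ι = 2 * m) : Nat.card (preserving (Units.coeHom (Matrix ι ι K)) (polar Q)) =
      Fintype.card K ^ (m ^ 2) * ∏ i ∈ Finset.range m, (Fintype.card K ^ (2 * (i + 1)) - 1) := by
  have h2 : ringChar K = 2 := FiniteField.even_card_iff_char_two.2 (Nat.even_iff.1 hq)
  have : CharP K 2 := h2 ▸ ringChar.charP K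
  rw [← H727.GW.card_isomGroup (polarBilin (qf hQ)) (fun x => by
      change polar (qf hQ) x x = 0
      rw [polar_self, two_smul, CharTwo.add_self_eq_zero]) (nondeg_qf hQ)
    (by rw [Module.finrank_fintype_fun_eq_card, hd])]
  exact Nat.card_congr
    { toFun := fun x => ⟨eOf (x : GL ι K), x.2⟩
      invFun := fun g => ⟨glOf (g : (ι → K) ≃ₗ[K] (ι → K)), fun u v => by
        change polar Q ((glOf g.1 : Matrix ι ι K) *ᵥ u) ((glOf g.1 : Matrix ι ι K) *ᵥ v) = _
        rw [glOf_mulVec, glOf_mulVec]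
        exact g.2 u v⟩
      left_inv := fun x => Subtype.ext (H957.glOf_eOf _)
      right_inv := fun g => Subtype.ext (H957.eOf_glOf _) }

theorem idx_s (hQ : IsNondegenerateQuadraticForm Q) (hp : ¬ IsPlusTypeOn Q ⊤) (hq : Even (Fintype.card K)) {m : ℕ}
    (hd : Fintype.card ι = 2 * m) (hm : 1 ≤ m) :
    (isometryGroup K Q).relIndex (preserving (Units.coeHom (Matrix ι ι K)) (polar Q)) * 2 =
      Fintype.card K ^ m * (Fintype.card K ^ m - 1) := by
  have h1 := card_mul_relIndex (isometryGroup K Q) (preserving (Units.coeHom (Matrix ι ι K)) (polar Q))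
  have hle : isometryGroup K Q ≤ preserving (Units.coeHom (Matrix ι ι K)) (polar Q) := fun g hg => polar_iso hg
  have h2 : Nat.card (isometryGroup K Q) = _ :=
    H957.card_isometryGroup_minus (qf hQ) (nondeg_qf hQ) hm hd fun h => hp ((isPlus_iff hQ).1 h)
  rw [inf_eq_left.2 hle, card_sp hQ hq hd, h2] at h1
  rw [mul_comm]
  exact H957.index_arith Fintype.one_lt_card hm false h1

/-- the stabiliser of a non-degenerate subspace in the orthogonal group -/
theorem card_stab (hQ : IsNondegenerateQuadraticForm Q) {W : Submodule K (ι → K)} (hW : Nondeg (res (qf hQ) W)) :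
    Nat.card (subspaceStabilizer W ⊓ isometryGroup K Q : Subgroup (GL ι K)) =
      Nat.card (isoQ (res (qf hQ) W)) * Nat.card (isoQ (res (qf hQ) (perp (qf hQ) W))) := by
  have key : ∀ x : isoQ (res (qf hQ) W) × isoQ (res (qf hQ) (perp (qf hQ) W)),
      ∃ g : (subspaceStabilizer W ⊓ isometryGroup K Q : Subgroup (GL ι K)),
        (∀ w : W, ((g : GL ι K) : Matrix ι ι K) *ᵥ (w : ι → K) = x.1.1 w) ∧
          ∀ w : perp (qf hQ) W, ((g : GL ι K) : Matrix ι ι K) *ᵥ (w : ι → K) = x.2.1 w := by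
    intro x
    obtain ⟨e, he, h1, h2⟩ := H955.exists_glueQ hW hW x.1.1 x.1.2 x.2.1 x.2.2
    refine ⟨⟨glOf e, mem_stab_iff.2 fun w hw => ?_, H957.glOf_mem (Q := qf hQ) he⟩, fun w => ?_, fun w => ?_⟩
    · rw [glOf_mulVec, h1 ⟨w, hw⟩]
      exact Subtype.mem _
    · exact (glOf_mulVec e w).trans (h1 w)
    · exact (glOf_mulVec e w).trans (h2 w)
  choose Φ h1 h2 using key
  rw [← Nat.card_prod]
  refine (Nat.card_congr (Equiv.ofBijective Φ ⟨fun x y h => ?_, fun g => ?_⟩)).symm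
  · refine Prod.ext (Subtype.ext (LinearEquiv.ext fun w => Subtype.ext ?_))
      (Subtype.ext (LinearEquiv.ext fun w => Subtype.ext ?_))
    · rw [← h1, ← h1, h]
    · rw [← h2, ← h2, h]
  · have hmap : ∀ A : Submodule K (ι → K), (∀ a ∈ A, ((g : GL ι K) : Matrix ι ι K) *ᵥ a ∈ A) →
        A.map (eOf (g : GL ι K) : (ι → K) →ₗ[K] (ι → K)) = A := by
      intro A hA
      apply Submodule.eq_of_le_of_finrank_eq
      · rintro _ ⟨a, ha, rfl⟩
        exact hA a ha
      · exact LinearEquiv.finrank_map_eq _ A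
    have hP : ∀ a ∈ perp (qf hQ) W, ((g : GL ι K) : Matrix ι ι K) *ᵥ a ∈ perp (qf hQ) W := by
      intro x hx a ha
      have h3 := mem_stab_iff.1 ((subspaceStabilizer W).inv_mem g.2.1) a ha
      have h4 := polar_iso g.2.2 ((((g : GL ι K)⁻¹ : GL ι K) : Matrix ι ι K) *ᵥ a) x
      rw [mulVec_mulVec, ← Units.val_mul, mul_inv_cancel, Units.val_one, one_mulVec] at h4
      exact h4.trans (hx _ h3)
    let x : isoQ (res (qf hQ) W) × isoQ (res (qf hQ) (perp (qf hQ) W)) :=
      (⟨(eOf (g : GL ι K)).ofSubmodules W W (hmap W (mem_stab_iff.1 g.2.1)), fun w => H925.mem_iso_iff.1 g.2.2 w⟩,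
        ⟨(eOf (g : GL ι K)).ofSubmodules _ _ (hmap _ hP), fun w => H925.mem_iso_iff.1 g.2.2 w⟩)
    refine ⟨x, Subtype.ext (H957.glOf_ext fun v => ?_)⟩
    obtain ⟨y, rfl⟩ := (H955.decomp hW).surjective v
    rw [H955.decomp_apply, mulVec_add, mulVec_add, h1, h2]
    rfl

/-- `O(Q) = Ω(Q) Stab(W)` if the perp of `W` takes all values -/
theorem relIndex_omega_eq (hQ : IsNondegenerateQuadraticForm Q) (hn : 5 ≤ Fintype.card ι) {W : Submodule K (ι → K)}
    (hW : ∀ c : K, ∃ v ∈ perp (qf hQ) W, qf hQ v = c) :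
    (subspaceStabilizer W).relIndex (omegaGL Q) = (subspaceStabilizer W).relIndex (isometryGroup K Q) := by
  refine relIndex_eq_of_fac (H925.omegaGL_le_iso Q) fun g hg => ?_
  have hg' : eOf g⁻¹ ∈ O (qf hQ) := H957.eOf_mem (Q := qf hQ) ((isometryGroup K Q).inv_mem hg)
  obtain ⟨h, hh, w, hw, he⟩ := H955.exists_refl_mul (H925.good_qf hQ hn) hW hg'
  obtain ⟨y, hy, hyw⟩ := H925.exists_omegaGL hQ hn hw
  refine ⟨y⁻¹, (omegaGL Q).inv_mem hy, (glOf h)⁻¹, (subspaceStabilizer W).inv_mem (mem_stab_iff.2 fun a ha => ?_), ?_⟩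
  · rw [glOf_mulVec, H955.reflGrp_fix hh a (by rwa [H955.perp_perp (nondeg_qf hQ)])]
    exact ha
  · rw [← _root_.mul_inv_rev, ← inv_eq_iff_eq_inv, eq_comm]
    refine H957.glOf_ext fun v => ?_
    rw [Units.val_mul, ← mulVec_mulVec, hyw, glOf_mulVec, ← H957.eOf_apply, he]
    rfl

theorem idx_p2 (hQ : IsNondegenerateQuadraticForm Q) (hp : IsPlusTypeOn Q ⊤) {m : ℕ} (hd : Fintype.card ι = 2 * m)
    (hn : 5 ≤ Fintype.card ι) {W : Submodule K (ι → K)} (h2 : finrank K W = 2) (hW : ∀ w ∈ W, Q w = 0 → w = 0) :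
    (subspaceStabilizer W).relIndex (omegaGL Q) * (2 * (Fintype.card K + 1)) =
      Fintype.card K ^ (2 * m - 2) * (Fintype.card K ^ m - 1) * (Fintype.card K ^ (m - 1) - 1) := by
  obtain ⟨k, rfl⟩ : ∃ k, m = k + 2 := ⟨m - 2, by omega⟩
  have ha : ∀ w : W, res (qf hQ) W w = 0 → w = 0 := fun w hw => Subtype.ext (hW w w.2 hw)
  have hnd : Nondeg (res (qf hQ) W) := H955.nondeg_of_aniso h2 ha
  have hm : ¬ IsPlus (res (qf hQ) W) := H955.not_isPlus_of_aniso ha (by omega)
  have hV : finrank K (ι → K) = 2 * (k + 2) := by rw [Module.finrank_fintype_fun_eq_card, hd]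
  have hP := (isPlus_iff hQ).2 hp
  have hm' : ¬ IsPlus (res (qf hQ) (perp (qf hQ) W)) := fun h =>
    hm (((H955.isPlus_iff_perp (nondeg_qf hQ) hnd (by rw [hV]; exact even_two_mul _) (by rw [h2]; exact even_two)).1
      hP).2 h)
  have hnd' := H955.nondeg_perp (nondeg_qf hQ) hnd
  have hd' : finrank K (perp (qf hQ) W) = 2 * (k + 1) := by
    have := H955.finrank_add_perp (nondeg_qf hQ) W
    omega
  have hq : 1 < Fintype.card K := Fintype.one_lt_card
  rw [relIndex_omega_eq hQ hn fun c => ?_]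
  swap
  · by_cases hc : c = 0
    · exact ⟨0, Submodule.zero_mem _, by rw [map_zero, hc]⟩
    · have h3 := card_norm_minus' hnd' hd' hm' hc
      have h4 : 0 < Nat.card K := Nat.card_pos
      obtain ⟨⟨v, hv⟩, -⟩ := Nat.card_ne_zero.1 (h3.trans_ne (by positivity))
      exact ⟨v, v.2, hv⟩
  have h1 := card_mul_relIndex (subspaceStabilizer W) (isometryGroup K Q)
  have h3 : Nat.card (isometryGroup K Q) = _ :=
    H957.card_isometryGroup_plus (qf hQ) (nondeg_qf hQ) (m := k + 2) (by omega) hd hP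
  rw [card_stab hQ hnd, card_isoQ_minus hnd (k := 0) h2 hm, card_isoQ_minus hnd' hd' hm', h3,
    show k + 2 - 1 = k + 1 from rfl, Finset.prod_range_succ, Finset.prod_range_zero] at h1
  generalize (subspaceStabilizer W).relIndex (isometryGroup K Q) = N at h1 ⊢
  have hP0 : 0 < ∏ i ∈ Finset.range k, (Fintype.card K ^ (2 * (i + 1)) - 1) := Finset.prod_pos fun i _ =>
    Nat.sub_pos_of_lt (Nat.one_lt_pow (by omega) hq)
  generalize ∏ i ∈ Finset.range k, (Fintype.card K ^ (2 * (i + 1)) - 1) = P at h1 hP0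
  generalize Fintype.card K = q at h1 hq ⊢
  have e2 : q ^ (2 * (k + 1)) - 1 = (q ^ (k + 1) + 1) * (q ^ (k + 1) - 1) := by
    rw [← Nat.sq_sub_sq, one_pow, ← pow_mul, mul_comm]
  have e1 : q ^ ((k + 2) * (k + 1)) = q ^ ((k + 1) * k) * q ^ (2 * (k + 2) - 2) := by
    rw [← pow_add, show 2 * (k + 2) - 2 = 2 * (k + 1) from rfl]
    ring_nf
  rw [e1, e2] at h1
  refine Nat.eq_of_mul_eq_mul_left (show 0 < 2 * q ^ ((k + 1) * k) * (q ^ (k + 1) + 1) * P by positivity) ?_
  rw [show k + 2 - 1 = k + 1 from rfl]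
  linear_combination h1

end Cfsg.Agent.SM.CS.Ix

namespace Cfsg.Agent.SM.CS

theorem boxIdx : BoxIdx := by
  intro ι _ _ K _ _ k q m B Sg G X h hn
  cases h with
  | u f hf hK hd v hv => exact Ix.idx_u hK hf hd (by omega) hv
  | p1 Q hQ hp hK hd v hv => exact hK ▸ Ix.idx_p1 hQ hp hd (by omega) hv
  | p2 Q hQ hp hK hd W h2 hW => exact hK ▸ Ix.idx_p2 hQ hp hd (by omega) h2 hW
  | o Q hQ hK hq hd W h2 hnd hW => exact hK ▸ Ix.idx_o hQ (hK ▸ hq) hd (by omega) h2 hnd hW
  | s Q hQ hp hK hq hd => exact hK ▸ Ix.idx_s hQ hp (hK ▸ hq) hd (by omega)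

end Cfsg.Agent.SM.CS
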