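import Cfsg.Agent.H955.QCount
import Cfsg.Agent.H955.QOdd
import Cfsg.Agent.H925.OrthBasic

/-!
# SM (S3570), box CS-Idx: counting vectors of a given norm, orbits on points (helper99)
-/

set_option autoImplicit false
set_option linter.unusedSectionVars false

namespace Cfsg.Agent.SM.CS.Ix

open Module QuadraticMap Matrix
open Cfsg Cfsg.Geo
open Cfsg.Agent.LieClassical.OrthCore (Nondeg O E Q_add)
open Cfsg.Agent.H955 (IsPlus res perp)
open Cfsg.Agent.H925 (qf nondeg_qf)

universe u v

section abstract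

variable {F : Type u} [Field F] [Finite F] {V : Type v} [AddCommGroup V] [Module F V] [FiniteDimensional F V]
  {Q : QuadraticForm F V}

theorem nondeg_smul (hQ : Nondeg Q) {c : F} (hc : c ≠ 0) : Nondeg (c • Q) := by
  intro x hx
  refine hQ x fun y => ?_
  have := hx y
  rw [FunLike.coe_smul, QuadraticMap.polar_smul, smul_eq_mul] at this
  exact (mul_eq_zero.1 this).resolve_left hc

theorem isPlus_smul {c : F} (hc : c ≠ 0) : IsPlus (c • Q) ↔ IsPlus Q := by
  refine exists_congr fun U => and_congr_left fun _ => forall₂_congr fun u _ => ?_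
  rw [_root_.smul_apply, smul_eq_mul, mul_eq_zero, or_iff_right hc]

theorem card_norm_smul {c : F} (hc : c ≠ 0) : Nat.card {v : V // Q v = c} = Nat.card {v : V // (c⁻¹ • Q) v = 1} := by
  refine Nat.card_congr (Equiv.subtypeEquivRight fun v => ?_)
  rw [_root_.smul_apply, smul_eq_mul, inv_mul_eq_one₀ hc, eq_comm]

/-- plus type, dimension `2 m`: there are `q ^ (2 m - 1) - q ^ (m - 1)` vectors of norm `c ≠ 0` -/
theorem card_norm_plus (hQ : Nondeg Q) {m : ℕ} (hd : finrank F V = 2 * m) (hP : IsPlus Q) {c : F} (hc : c ≠ 0) :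
    Nat.card F * Nat.card {v : V // Q v = c} + Nat.card F ^ m = Nat.card F ^ (2 * m) := by
  rw [card_norm_smul hc]
  exact H955.card_eq_one_of_isPlus (nondeg_smul hQ (inv_ne_zero hc)) hd ((isPlus_smul (inv_ne_zero hc)).2 hP)

/-- minus type, dimension `2 m`: there are `q ^ (2 m - 1) + q ^ (m - 1)` vectors of norm `c ≠ 0` -/
theorem card_norm_minus (hQ : Nondeg Q) {m : ℕ} (hd : finrank F V = 2 * m) (hP : ¬ IsPlus Q) {c : F} (hc : c ≠ 0) :
    Nat.card F * Nat.card {v : V // Q v = c} = Nat.card F ^ (2 * m) + Nat.card F ^ m := by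
  rw [card_norm_smul hc]
  exact H955.card_eq_one_of_not_isPlus (nondeg_smul hQ (inv_ne_zero hc)) hd
    fun h => hP ((isPlus_smul (inv_ne_zero hc)).1 h)

theorem card_norm_eq (hQ : Nondeg Q) {m : ℕ} (hd : finrank F V = 2 * m) {c d : F} (hc : c ≠ 0) (hd0 : d ≠ 0) :
    Nat.card {v : V // Q v = c} = Nat.card {v : V // Q v = d} := by
  have hq : 0 < Nat.card F := Nat.card_pos
  by_cases hP : IsPlus Q
  · have h1 := card_norm_plus hQ hd hP hc
    rw [← card_norm_plus hQ hd hP hd0] at h1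
    exact Nat.eq_of_mul_eq_mul_left hq (Nat.add_right_cancel h1)
  · have h1 := card_norm_minus hQ hd hP hc
    rw [← card_norm_minus hQ hd hP hd0] at h1
    exact Nat.eq_of_mul_eq_mul_left hq h1

/-- the singular vectors (with `0`) -/
theorem card_zero_add (hQ : Nondeg Q) {m : ℕ} (hd : finrank F V = 2 * m) :
    Nat.card {v : V // Q v = 0} + (Nat.card F - 1) * Nat.card {v : V // Q v = 1} = Nat.card F ^ (2 * m) := by
  classical
  have := Fintype.ofFinite F
  have : Finite V := Module.finite_of_finite F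
  rw [← hd, ← Module.natCard_eq_pow_finrank, ← Nat.card_congr (Equiv.sigmaFiberEquiv Q), Nat.card_sigma,
    ← Finset.add_sum_erase _ _ (Finset.mem_univ (0 : F)), Finset.sum_congr rfl fun c hc =>
      card_norm_eq hQ hd (Finset.ne_of_mem_erase hc) one_ne_zero, Finset.sum_const, Finset.card_erase_of_mem
      (Finset.mem_univ _), Finset.card_univ, smul_eq_mul, Nat.card_eq_fintype_card (α := F)]

/-- the perp of a non-singular vector, odd characteristic -/
theorem perp_props (h2 : (2 : F) ≠ 0) (hQ : Nondeg Q) {v : V} (hv : Q v ≠ 0) :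
    Nondeg (res Q (perp Q (Submodule.span F {v}))) ∧ finrank F (perp Q (Submodule.span F {v})) + 1 = finrank F V := by
  have hv0 : v ≠ 0 := by
    rintro rfl
    exact hv (map_zero Q)
  refine ⟨H955.nondeg_perp hQ (H955.nondeg_span_singleton h2 hv), ?_⟩
  rw [← H955.finrank_add_perp hQ (Submodule.span F {v}), finrank_span_singleton hv0, add_comm]

theorem card_norm_odd_aux (h2 : (2 : F) ≠ 0) (hQ : Nondeg Q) {k : ℕ} (hd : finrank F V = 2 * k + 1) {v : V}
    (hv : Q v ≠ 0) : Nat.card {w : V // Q w = Q v} +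
      Nat.card F * Nat.card {u : perp Q (Submodule.span F {v}) // res Q _ u = 1} = 2 * Nat.card F ^ (2 * k) := by
  classical
  have := Fintype.ofFinite F
  have : Finite V := Module.finite_of_finite F
  obtain ⟨hW, hWd⟩ := perp_props h2 hQ hv
  have hWd' : finrank F (perp Q (Submodule.span F {v})) = 2 * k := by omega
  have hv0 : v ≠ 0 := by
    rintro rfl
    exact hv (map_zero Q)
  let W := perp Q (Submodule.span F {v})
  let e : (F × W) ≃ V := (((LinearEquiv.toSpanNonzeroSingleton F V v hv0).prodCongr (LinearEquiv.refl F W)).trans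
    (H955.decomp (H955.nondeg_span_singleton h2 hv))).toEquiv
  have he : ∀ x : F × W, Q (e x) = x.1 * x.1 * Q v + res Q W x.2 := by
    intro x
    change Q (H955.decomp (H955.nondeg_span_singleton h2 hv) _) = _
    rw [H955.Q_decomp]
    change Q (x.1 • v) + Q (x.2 : V) = _
    rw [QuadraticMap.map_smul, smul_eq_mul]
    rfl
  have h1 : Nat.card {w : V // Q w = Q v} = ∑ a : F, Nat.card {u : W // res Q W u = (1 - a * a) * Q v} := by
    rw [← Nat.card_sigma, ← Nat.card_congr (Equiv.subtypeProdEquivSigmaSubtype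
      (fun (a : F) (u : W) => res Q W u = (1 - a * a) * Q v))]
    refine (Nat.card_congr (e.subtypeEquiv fun x => ?_)).symm
    rw [he]
    constructor
    · intro h
      rw [h]
      ring
    · intro h
      linear_combination h
  have h3 : ∀ a : F, Nat.card {u : W // res Q W u = (1 - a * a) * Q v} =
      if a ∈ ({1, -1} : Finset F) then Nat.card {u : W // res Q W u = 0} else Nat.card {u : W // res Q W u = 1} := by
    intro a
    split_ifs with h
    · have : 1 - a * a = 0 := by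
        rcases Finset.mem_insert.1 h with rfl | h
        · ring
        · rw [Finset.mem_singleton.1 h]
          ring
      rw [this, zero_mul]
    · refine card_norm_eq hW hWd' (mul_ne_zero (fun h0 => h ?_) hv) one_ne_zero
      have := mul_self_eq_one_iff.1 (sub_eq_zero.1 h0).symm
      simpa using this
  have hne : (1 : F) ≠ -1 := fun h => h2 (by linear_combination h)
  have h4 : (Finset.univ.filter fun a : F => a ∈ ({1, -1} : Finset F)).card = 2 := by
    rw [Finset.filter_mem_eq_inter, Finset.univ_inter, Finset.card_pair hne]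
  have h5 := Finset.card_filter_add_card_filter_not (s := Finset.univ) (fun a : F => a ∈ ({1, -1} : Finset F))
  rw [h4, Finset.card_univ, ← Nat.card_eq_fintype_card] at h5
  rw [h1, Finset.sum_congr rfl fun a _ => h3 a, Finset.sum_ite, Finset.sum_const, Finset.sum_const, h4, smul_eq_mul,
    smul_eq_mul, ← card_zero_add hW hWd', ← h5]
  rw [show ∀ x : ℕ, 2 + x - 1 = x + 1 from fun x => by omega]
  ring

/-- odd dimension `2 k + 1`, `v ^ ⊥` of plus type: `q ^ (2 k) + q ^ k` vectors have the norm of `v` -/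
theorem card_norm_odd_plus (h2 : (2 : F) ≠ 0) (hQ : Nondeg Q) {k : ℕ} (hd : finrank F V = 2 * k + 1) {v : V}
    (hv : Q v ≠ 0) (hP : IsPlus (res Q (perp Q (Submodule.span F {v})))) :
    Nat.card {w : V // Q w = Q v} = Nat.card F ^ (2 * k) + Nat.card F ^ k := by
  obtain ⟨hW, hWd⟩ := perp_props h2 hQ hv
  have h1 := card_norm_odd_aux h2 hQ hd hv
  have h3 := card_norm_plus hW (m := k) (by omega) hP one_ne_zero
  omega

/-- odd dimension `2 k + 1`, `v ^ ⊥` of minus type: `q ^ (2 k) - q ^ k` vectors have the norm of `v` -/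
theorem card_norm_odd_minus (h2 : (2 : F) ≠ 0) (hQ : Nondeg Q) {k : ℕ} (hd : finrank F V = 2 * k + 1) {v : V}
    (hv : Q v ≠ 0) (hP : ¬ IsPlus (res Q (perp Q (Submodule.span F {v})))) :
    Nat.card {w : V // Q w = Q v} + Nat.card F ^ k = Nat.card F ^ (2 * k) := by
  obtain ⟨hW, hWd⟩ := perp_props h2 hQ hv
  have h1 := card_norm_odd_aux h2 hQ hd hv
  have h3 := card_norm_minus hW (m := k) (by omega) hP one_ne_zero
  omega

theorem card_norm_le_odd (h2 : (2 : F) ≠ 0) (hQ : Nondeg Q) {k : ℕ} (hd : finrank F V = 2 * k + 1) {c : F} (hc : c ≠ 0) :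
    Nat.card {w : V // Q w = c} ≤ Nat.card F ^ k * (Nat.card F ^ k + 1) := by
  by_cases h : ∃ v, Q v = c
  · obtain ⟨v, rfl⟩ := h
    have e : Nat.card F ^ k * (Nat.card F ^ k + 1) = Nat.card F ^ (2 * k) + Nat.card F ^ k := by ring
    by_cases hP : IsPlus (res Q (perp Q (Submodule.span F {v})))
    · rw [card_norm_odd_plus h2 hQ hd hc hP, e]
    · have := card_norm_odd_minus h2 hQ hd hc hP
      omega
  · have : IsEmpty {w : V // Q w = c} := ⟨fun w => h ⟨w.1, w.2⟩⟩
    rw [Nat.card_of_isEmpty]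
    exact Nat.zero_le _

theorem card_norm_plus' (hQ : Nondeg Q) {k : ℕ} (hd : finrank F V = 2 * (k + 1)) (hP : IsPlus Q) {c : F} (hc : c ≠ 0) :
    Nat.card {w : V // Q w = c} = Nat.card F ^ k * (Nat.card F ^ (k + 1) - 1) := by
  have h1 := card_norm_plus hQ hd hP hc
  have hq : 0 < Nat.card F := Nat.card_pos
  refine Nat.eq_of_mul_eq_mul_left hq ?_
  obtain ⟨y, hy⟩ : ∃ y, Nat.card F ^ (k + 1) = y + 1 := ⟨Nat.card F ^ (k + 1) - 1, by
    have := Nat.pow_pos (n := k + 1) hq
    omega⟩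
  rw [← mul_assoc, ← pow_succ', hy, Nat.add_sub_cancel]
  rw [two_mul, pow_add _ (k + 1), hy] at h1
  nlinarith

theorem card_norm_minus' (hQ : Nondeg Q) {k : ℕ} (hd : finrank F V = 2 * (k + 1)) (hP : ¬ IsPlus Q) {c : F}
    (hc : c ≠ 0) : Nat.card {w : V // Q w = c} = Nat.card F ^ k * (Nat.card F ^ (k + 1) + 1) := by
  have hq : 0 < Nat.card F := Nat.card_pos
  refine Nat.eq_of_mul_eq_mul_left hq ?_
  rw [card_norm_minus hQ hd hP hc]
  ring

theorem card_norm_le_even (hQ : Nondeg Q) {k : ℕ} (hd : finrank F V = 2 * (k + 1)) {c : F} (hc : c ≠ 0) :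
    Nat.card {w : V // Q w = c} ≤ Nat.card F ^ k * (Nat.card F ^ (k + 1) + 1) := by
  by_cases hP : IsPlus Q
  · rw [card_norm_plus' hQ hd hP hc]
    exact Nat.mul_le_mul_left _ (by omega)
  · exact (card_norm_minus' hQ hd hP hc).le

end abstract

section orbit

variable {ι : Type} [Fintype ι] [DecidableEq ι] {K : Type} [Field K]

theorem relIndex_stabilizer {Γ α : Type*} [Group Γ] [MulAction Γ α] (G : Subgroup Γ) (a : α) :
    (MulAction.stabilizer Γ a).relIndex G = {b | ∃ g ∈ G, g • a = b}.ncard := by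
  have h1 : (MulAction.stabilizer Γ a).subgroupOf G = MulAction.stabilizer G a := by
    ext g
    rfl
  rw [Subgroup.relIndex, h1, MulAction.index_stabilizer]
  congr 1
  ext b
  exact ⟨fun ⟨g, hg⟩ => ⟨g, g.2, hg⟩, fun ⟨g, hg, h⟩ => ⟨⟨g, hg⟩, h⟩⟩

theorem mem_stab_iff {W : Submodule K (ι → K)} {g : GL ι K} :
    g ∈ subspaceStabilizer W ↔ ∀ w ∈ W, (g : Matrix ι ι K) *ᵥ w ∈ W := by
  refine ⟨fun h w hw => (h w).1 hw, fun h w => ⟨h w, fun hw => ?_⟩⟩
  let e := LieClassical.OrthFinite.glEquiv ι K g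
  have h1 : W.map (e : (ι → K) →ₗ[K] (ι → K)) = W := by
    apply Submodule.eq_of_le_of_finrank_eq
    · rintro _ ⟨w, hw, rfl⟩
      exact h w hw
    · exact LinearEquiv.finrank_map_eq e W
  have h2 : e w ∈ W.map (e : (ι → K) →ₗ[K] (ι → K)) := by
    rw [h1]
    exact hw
  obtain ⟨w', hw', he⟩ := h2
  rwa [← e.injective he]

theorem mem_stab_point {v : ι → K} {g : GL ι K} :
    g ∈ subspaceStabilizer (Submodule.span K {v}) ↔ ∃ c : K, (g : Matrix ι ι K) *ᵥ v = c • v := by
  rw [mem_stab_iff]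
  constructor
  · intro h
    obtain ⟨c, hc⟩ := Submodule.mem_span_singleton.1 (h v (Submodule.mem_span_singleton_self v))
    exact ⟨c, hc.symm⟩
  · rintro ⟨c, hc⟩ w hw
    obtain ⟨a, rfl⟩ := Submodule.mem_span_singleton.1 hw
    rw [mulVec_smul, hc, smul_smul]
    exact Submodule.mem_span_singleton.2 ⟨_, rfl⟩

/-- the orbit of a vector -/
def orb (G : Subgroup (GL ι K)) (v : ι → K) : Set (ι → K) := {w | ∃ g ∈ G, (g : Matrix ι ι K) *ᵥ v = w}

/-- orbit of the vector = orbit of the point times the number of multiples of `v` in the orbit -/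
theorem ncard_orb (G : Subgroup (GL ι K)) {v : ι → K} (hv : v ≠ 0) : (orb G v).ncard =
    (subspaceStabilizer (Submodule.span K {v})).relIndex G * {c : K | c • v ∈ orb G v}.ncard := by
  let X := subspaceStabilizer (Submodule.span K {v})
  let S := MulAction.stabilizer (GL ι K) v
  have h1 : S.relIndex G = (orb G v).ncard := relIndex_stabilizer G v
  have h2 : S.relIndex (X ⊓ G) = (orb (X ⊓ G) v).ncard := relIndex_stabilizer (X ⊓ G) v
  have hS : S ≤ X := fun g hg => mem_stab_point.2 ⟨1, by rw [one_smul]; exact hg⟩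
  have h3 : orb (X ⊓ G) v = (fun c : K => c • v) '' {c : K | c • v ∈ orb G v} := by
    ext w
    constructor
    · rintro ⟨g, hg, rfl⟩
      obtain ⟨c, hc⟩ := mem_stab_point.1 hg.1
      exact ⟨c, ⟨g, hg.2, hc⟩, hc.symm⟩
    · rintro ⟨c, ⟨g, hg, hc⟩, rfl⟩
      exact ⟨g, ⟨mem_stab_point.2 ⟨c, hc⟩, hg⟩, hc⟩
  rw [h3, Set.ncard_image_of_injective _ (smul_left_injective K hv)] at h2
  rw [← h1, ← h2, ← Subgroup.inf_relIndex_right X G, mul_comm, ← Subgroup.inf_relIndex_right S G,
    ← Subgroup.relIndex_mul_relIndex (S ⊓ G) (X ⊓ G) G (inf_le_inf_right G hS) inf_le_right,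
    ← Subgroup.inf_relIndex_right S (X ⊓ G), ← inf_assoc, inf_eq_left.2 hS]

variable [Fintype K] {Q : (ι → K) → K}

theorem nondeg_res (hQ : IsNondegenerateQuadraticForm Q) {U : Submodule K (ι → K)}
    (hU : IsNondegenerateOn (polar Q) U) : Nondeg (res (qf hQ) U) := by
  rw [H955.nondeg_res_iff]
  intro x hx hxy
  by_contra h
  obtain ⟨y, hy, hne⟩ := (hU x hx h).2
  exact hne (hxy y hy)

theorem ndOn_of_nondeg (hQ : IsNondegenerateQuadraticForm Q) {U : Submodule K (ι → K)}
    (hU : Nondeg (res (qf hQ) U)) : IsNondegenerateOn (polar Q) U := by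
  rw [H955.nondeg_res_iff] at hU
  intro w hw h0
  have : ∃ x ∈ U, polar Q w x ≠ 0 := by
    by_contra h
    push Not at h
    exact h0 (hU w hw h)
  obtain ⟨x, hx, hne⟩ := this
  exact ⟨⟨x, hx, by rwa [polar_comm]⟩, x, hx, hne⟩

theorem isPlus_res_iff (hQ : IsNondegenerateQuadraticForm Q) {U : Submodule K (ι → K)} :
    IsPlus (res (qf hQ) U) ↔ IsPlusTypeOn Q U := by
  constructor
  · rintro ⟨A, hA, hd⟩
    refine ⟨A.map U.subtype, Submodule.map_subtype_le U A, ?_, ?_⟩
    · rintro _ ⟨a, ha, rfl⟩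
      exact hA a ha
    · rw [H955.finrank_map_of_injective U.subtype U.injective_subtype, hd]
  · rintro ⟨A, hAU, hA, hd⟩
    refine ⟨A.comap U.subtype, fun a ha => hA _ ha, ?_⟩
    rw [(Submodule.comapSubtypeEquivOfLe hAU).finrank_eq, hd]

theorem isPlus_iff (hQ : IsNondegenerateQuadraticForm Q) : IsPlus (qf hQ) ↔ IsPlusTypeOn Q ⊤ := by
  rw [← isPlus_res_iff hQ]
  exact (H955.isPlus_iff_of_equiv Submodule.topEquiv fun _ => rfl).symm

theorem ncard_res (hQ : IsNondegenerateQuadraticForm Q) (U : Submodule K (ι → K)) (c : K) :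
    {w | w ∈ U ∧ Q w = c}.ncard = Nat.card {u : U // res (qf hQ) U u = c} := by
  rw [← Nat.card_coe_set_eq]
  exact (Nat.card_congr (Equiv.subtypeSubtypeEquivSubtypeInter (· ∈ U) fun w => Q w = c)).symm

theorem two_ne_zero_of_odd (h : Odd (Fintype.card K)) : (2 : K) ≠ 0 := by
  intro h2
  have : CharP K 2 := CharTwo.of_one_ne_zero_of_two_eq_zero one_ne_zero h2
  obtain ⟨n, -, hn⟩ := FiniteField.card K 2
  rw [hn] at h
  exact (Nat.not_even_iff_odd.2 h) ((Nat.even_pow.2 ⟨even_two, n.ne_zero⟩))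

/-- vectors of norm `c` in a non-degenerate subspace of dimension `2 k + 1` -/
theorem ncard_le_odd (hQ : IsNondegenerateQuadraticForm Q) (hq : Odd (Fintype.card K)) {U : Submodule K (ι → K)}
    (hU : IsNondegenerateOn (polar Q) U) {k : ℕ} (hd : finrank K U = 2 * k + 1) {c : K} (hc : c ≠ 0) :
    {w | w ∈ U ∧ Q w = c}.ncard ≤ Fintype.card K ^ k * (Fintype.card K ^ k + 1) := by
  rw [ncard_res hQ, ← Nat.card_eq_fintype_card]
  exact card_norm_le_odd (two_ne_zero_of_odd hq) (nondeg_res hQ hU) hd hc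

/-- vectors of norm `c` in a non-degenerate subspace of dimension `2 (k + 1)` -/
theorem ncard_le_even (hQ : IsNondegenerateQuadraticForm Q) {U : Submodule K (ι → K)}
    (hU : IsNondegenerateOn (polar Q) U) {k : ℕ} (hd : finrank K U = 2 * (k + 1)) {c : K} (hc : c ≠ 0) :
    {w | w ∈ U ∧ Q w = c}.ncard ≤ Fintype.card K ^ k * (Fintype.card K ^ (k + 1) + 1) := by
  rw [ncard_res hQ, ← Nat.card_eq_fintype_card]
  exact card_norm_le_even (nondeg_res hQ hU) hd hc

/-- a non-degenerate subspace of dimension at least two takes all values (odd `q`) -/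
theorem exists_norm (hQ : IsNondegenerateQuadraticForm Q) (hq : Odd (Fintype.card K)) {U : Submodule K (ι → K)}
    (hU : IsNondegenerateOn (polar Q) U) (hd : 2 ≤ finrank K U) (c : K) : ∃ v ∈ U, Q v = c := by
  obtain ⟨v, hv⟩ := H955.exists_value (two_ne_zero_of_odd hq) (nondeg_res hQ hU) hd c
  exact ⟨v, v.2, hv⟩

/-- **the orbit of the point `⟨v⟩` under a group of isometries which keeps `U`** -/
theorem two_mul_relIndex_le (hQ : IsNondegenerateQuadraticForm Q) (hq : Odd (Fintype.card K)) {D : Subgroup (GL ι K)}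
    (hD : D ≤ isometryGroup K Q) {U : Submodule K (ι → K)} (hU : ∀ g ∈ D, ∀ u ∈ U, (g : Matrix ι ι K) *ᵥ u ∈ U)
    {v : ι → K} (hvU : v ∈ U) (hv : v ≠ 0) :
    2 * (subspaceStabilizer (Submodule.span K {v})).relIndex D ≤ {w | w ∈ U ∧ Q w = Q v}.ncard := by
  let H := isometryGroup K Q ⊓ subspaceStabilizer U
  have hDH : D ≤ H := fun g hg => ⟨hD hg, mem_stab_iff.2 (hU g hg)⟩
  have h1 : (subspaceStabilizer (Submodule.span K {v})).relIndex D ≤
      (subspaceStabilizer (Submodule.span K {v})).relIndex H :=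
    Subgroup.relIndex_le_of_le_right hDH Subgroup.FiniteIndex.index_ne_zero
  have h2 : orb H v ⊆ {w | w ∈ U ∧ Q w = Q v} := by
    rintro _ ⟨g, hg, rfl⟩
    exact ⟨mem_stab_iff.1 hg.2 v hvU, H925.mem_iso_iff.1 hg.1 v⟩
  have hne : (1 : K) ≠ -1 := fun h => two_ne_zero_of_odd hq (by linear_combination h)
  have hm : ∀ w : ι → K, ((-1 : GL ι K) : Matrix ι ι K) *ᵥ w = (-1 : K) • w := fun w => by
    rw [Units.val_neg, Units.val_one, neg_mulVec, one_mulVec, neg_one_smul]
  have h3 : ({1, -1} : Set K) ⊆ {c : K | c • v ∈ orb H v} := by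
    rintro c (rfl | rfl)
    · exact ⟨1, H.one_mem, by rw [Units.val_one, one_mulVec, one_smul]⟩
    · refine ⟨-1, ⟨H925.mem_iso_iff.2 fun w => ?_, mem_stab_iff.2 fun w hw => ?_⟩, hm v⟩
      · rw [hm, hQ.smul, neg_one_sq, one_mul]
      · rw [hm]
        exact U.smul_mem _ hw
  have h4 := Set.ncard_le_ncard h3
  rw [Set.ncard_pair hne] at h4
  calc 2 * _ ≤ {c : K | c • v ∈ orb H v}.ncard * (subspaceStabilizer (Submodule.span K {v})).relIndex H :=
        Nat.mul_le_mul h4 h1
    _ = (orb H v).ncard := by rw [ncard_orb H hv, mul_comm]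
    _ ≤ _ := Set.ncard_le_ncard h2

/-- any characteristic -/
theorem relIndex_le {D : Subgroup (GL ι K)} (hD : D ≤ isometryGroup K Q) {U : Submodule K (ι → K)}
    (hU : ∀ g ∈ D, ∀ u ∈ U, (g : Matrix ι ι K) *ᵥ u ∈ U) {v : ι → K} (hvU : v ∈ U) (hv : v ≠ 0) :
    (subspaceStabilizer (Submodule.span K {v})).relIndex D ≤ {w | w ∈ U ∧ Q w = Q v}.ncard := by
  have h2 : orb D v ⊆ {w | w ∈ U ∧ Q w = Q v} := by
    rintro _ ⟨g, hg, rfl⟩
    exact ⟨hU g hg v hvU, H925.mem_iso_iff.1 (hD hg) v⟩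
  have h3 : 0 < {c : K | c • v ∈ orb D v}.ncard :=
    (Set.ncard_pos).2 ⟨1, 1, D.one_mem, by rw [Units.val_one, one_mulVec, one_smul]⟩
  calc _ ≤ (orb D v).ncard := by
        rw [ncard_orb D hv]
        exact Nat.le_mul_of_pos_right _ h3
    _ ≤ _ := Set.ncard_le_ncard h2

/-- `Ω(Q)` is transitive on the vectors of a given non-zero norm -/
theorem orb_omega (hQ : IsNondegenerateQuadraticForm Q) (hn : 5 ≤ Fintype.card ι) {v : ι → K} (hv : Q v ≠ 0) :
    orb (omegaGL Q) v = {w | Q w = Q v} := by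
  have h0 : ∀ w, Q w ≠ 0 → w ≠ 0 := by
    rintro w hw rfl
    exact hw (map_zero (qf hQ))
  ext w
  constructor
  · rintro ⟨g, hg, rfl⟩
    exact H925.mem_iso_iff.1 (H925.omegaGL_le_iso Q hg) v
  · intro hw
    have hw' : Q w = Q v := hw
    exact H925.exists_trans hQ hn (h0 v hv) (h0 w (by rwa [hw'])) hw'.symm

/-- the pole of a non-degenerate hyperplane -/
theorem exists_pole (hQ : IsNondegenerateQuadraticForm Q) {W : Submodule K (ι → K)}
    (hd : finrank K W + 1 = Fintype.card ι) (hn : IsNondegenerateOn (polar Q) W) :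
    ∃ v, Q v ≠ 0 ∧ ∀ w, w ∈ W ↔ polar Q v w = 0 := by
  have h1 := H955.finrank_add_perp (nondeg_qf hQ) W
  rw [Module.finrank_fintype_fun_eq_card] at h1
  have h2 : finrank K (perp (qf hQ) W) = 1 := by omega
  obtain ⟨v, hv⟩ := H955.exists_nonsingular (H955.nondeg_perp (nondeg_qf hQ) (nondeg_res hQ hn)) (by omega)
  have hv0 : (v : ι → K) ≠ 0 := fun h => hv (by
    change qf hQ (v : ι → K) = 0
    rw [h, map_zero])
  have h3 : Submodule.span K {(v : ι → K)} = perp (qf hQ) W := by
    apply Submodule.eq_of_le_of_finrank_eq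
    · rw [Submodule.span_singleton_le_iff_mem]
      exact v.2
    · rw [finrank_span_singleton hv0, h2]
  refine ⟨v, hv, fun w => ?_⟩
  have h4 : W = perp (qf hQ) (Submodule.span K {(v : ι → K)}) := by rw [h3, H955.perp_perp (nondeg_qf hQ)]
  refine (SetLike.ext_iff.1 h4 w).trans ?_
  rw [H955.mem_perp]
  constructor
  · intro h
    exact h _ (Submodule.mem_span_singleton_self _)
  · intro h u hu
    obtain ⟨a, rfl⟩ := Submodule.mem_span_singleton.1 hu
    rw [polar_smul_left]
    change a • polar Q (v : ι → K) w = 0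
    rw [h, smul_zero]

theorem polar_iso {g : GL ι K} (hg : g ∈ isometryGroup K Q) (u w : ι → K) :
    polar Q ((g : Matrix ι ι K) *ᵥ u) ((g : Matrix ι ι K) *ᵥ w) = polar Q u w := by
  simp only [polar, ← mulVec_add, H925.mem_iso_iff.1 hg]

/-- an isometry keeps the hyperplane `v ^ ⊥` iff it keeps the point `⟨v⟩` -/
theorem stab_pole (hQ : IsNondegenerateQuadraticForm Q) {W : Submodule K (ι → K)} {v : ι → K}
    (hW : ∀ w, w ∈ W ↔ polar Q v w = 0) {g : GL ι K} (hg : g ∈ isometryGroup K Q) :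
    g ∈ subspaceStabilizer W ↔ g ∈ subspaceStabilizer (Submodule.span K {v}) := by
  have hW' : W = perp (qf hQ) (Submodule.span K {v}) := by
    ext w
    rw [hW, H955.mem_perp]
    constructor
    · intro h u hu
      obtain ⟨a, rfl⟩ := Submodule.mem_span_singleton.1 hu
      rw [polar_smul_left]
      change a • polar Q v w = 0
      rw [h, smul_zero]
    · intro h
      exact h _ (Submodule.mem_span_singleton_self _)
  have key : ∀ A : Submodule K (ι → K), g ∈ subspaceStabilizer A → g ∈ subspaceStabilizer (perp (qf hQ) A) := by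
    intro A hA
    refine mem_stab_iff.2 fun x hx a ha => ?_
    have h1 := mem_stab_iff.1 ((subspaceStabilizer A).inv_mem hA) a ha
    have h2 := polar_iso hg (((g⁻¹ : GL ι K) : Matrix ι ι K) *ᵥ a) x
    rw [mulVec_mulVec, ← Units.val_mul, mul_inv_cancel, Units.val_one, one_mulVec] at h2
    exact h2.trans (hx _ h1)
  constructor
  · intro h
    have := key W h
    rwa [hW', H955.perp_perp (nondeg_qf hQ)] at this
  · intro h
    rw [hW']
    exact key _ h

theorem relIndex_pole (hQ : IsNondegenerateQuadraticForm Q) {W : Submodule K (ι → K)} {v : ι → K}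
    (hW : ∀ w, w ∈ W ↔ polar Q v w = 0) {D : Subgroup (GL ι K)} (hD : D ≤ isometryGroup K Q) :
    (subspaceStabilizer W).relIndex D = (subspaceStabilizer (Submodule.span K {v})).relIndex D := by
  rw [← Subgroup.inf_relIndex_right, ← Subgroup.inf_relIndex_right (subspaceStabilizer (Submodule.span K {v}))]
  congr 1
  ext g
  exact and_congr_left fun hg => stab_pole hQ hW (hD hg)

end orbit

end Cfsg.Agent.SM.CS.Ix
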